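import Cfsg.Agent.Coset.Table
import Cfsg.Agent.Coset.M11.Rels
import Cfsg.Agent.Coset.M11.ElevenData

set_option autoImplicit false
set_option maxRecDepth 100000

namespace CfsgLib.Coset.M11.Eleven

theorem hR : checkRules rels subs R = true := by decide +kernel
theorem hdefs : checkDefs E 4 12 3646 = true := by decide +kernel
theorem hsteps : checkChunks E id R 4 7 3646 116 C = true := by decide +kernel
theorem htable : checkTable E id (3646 + chunk * 116) 11 4 4 2 Rep Ref Tb = true := by decide +kernel
theorem hperm : checkPerm id 11 4 4 2 Tb = true := by decide +kernel
theorem hrels : checkRels 11 4 Tb rels = true := by decide +kernel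
theorem htrans : checkTrans 11 4 4 Tb Par = true := by decide +kernel

end CfsgLib.Coset.M11.Eleven
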