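import Cfsg.Agent.Coset.Chain

set_option autoImplicit false
set_option maxRecDepth 100000
set_option linter.unusedVariables false

namespace CfsgLib.Coset.M11.Orb11

noncomputable def A0PLeaf (i : Nat) : Nat := (0x800000a000000000005000009000002000004000008000000000004000007000002000003000006000001000003000005000001000002000004000000000001000003000002000000000002000001000000000001000000000000000000 : Nat)
noncomputable def A0P (i : Nat) : Nat := Nat.shiftRight (A0PLeaf (Nat.shiftRight i 8)) (Nat.mul 72 (Nat.land i 255))

noncomputable def A0InvLeaf (i : Nat) : Nat := (0xa000009000008000007000006000005000004000003000002000001000000 : Nat)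
noncomputable def A0Inv (i : Nat) : Nat := Nat.shiftRight (A0InvLeaf (Nat.shiftRight i 8)) (Nat.mul 24 (Nat.land i 255))

def A0G : List (List Nat) := [[0], [1], [2], [3]]

noncomputable def A1PLeaf (i : Nat) : Nat := (0x300000400000800000100000400000a000003000002000006000001000002000005000000000002000007000003000001000009000003000000000002000002000000000004000000000000000003000000000000000001 : Nat)
noncomputable def A1P (i : Nat) : Nat := Nat.shiftRight (A1PLeaf (Nat.shiftRight i 8)) (Nat.mul 72 (Nat.land i 255))

noncomputable def A1InvLeaf (i : Nat) : Nat := (0x800000400000900000500000700000600000200000100000300000000000a : Nat)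
noncomputable def A1Inv (i : Nat) : Nat := Nat.shiftRight (A1InvLeaf (Nat.shiftRight i 8)) (Nat.mul 24 (Nat.land i 255))

def A1G : List (List Nat) := [[0], [3], [1, 2, 1], [1, 0, 3, 2]]

noncomputable def A2PLeaf (i : Nat) : Nat := (0x300000600000a000002000002000009000002000001000005000001000001000007000003000000000008000002000000000006000001000000000004000000000000000003000000000000000002 : Nat)
noncomputable def A2P (i : Nat) : Nat := Nat.shiftRight (A2PLeaf (Nat.shiftRight i 8)) (Nat.mul 72 (Nat.land i 255))

noncomputable def A2InvLeaf (i : Nat) : Nat := (0x8000007000004000005000003000006000002000001000000000009000009 : Nat)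
noncomputable def A2Inv (i : Nat) : Nat := Nat.shiftRight (A2InvLeaf (Nat.shiftRight i 8)) (Nat.mul 24 (Nat.land i 255))

def A2G : List (List Nat) := [[3], [0, 1, 2, 1, 0], [0, 3, 2, 3, 0, 1], [0, 1, 0, 3, 2, 0, 3, 1, 2, 1]]

noncomputable def A3PLeaf (i : Nat) : Nat := (0x100000300000900000000000300000700000000000200000a000001000001000004000000000001000006000001000000000008000000000000000005000000000000000003 : Nat)
noncomputable def A3P (i : Nat) : Nat := Nat.shiftRight (A3PLeaf (Nat.shiftRight i 8)) (Nat.mul 72 (Nat.land i 255))

noncomputable def A3InvLeaf (i : Nat) : Nat := (0x5000007000002000006000003000001000004000000000008000008000008 : Nat)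
noncomputable def A3Inv (i : Nat) : Nat := Nat.shiftRight (A3InvLeaf (Nat.shiftRight i 8)) (Nat.mul 24 (Nat.land i 255))

def A3G : List (List Nat) := [[0, 1, 2, 0, 3, 2, 0, 3, 1, 2, 1], [0, 1, 2, 1, 0, 3, 1, 0, 3, 2, 3, 0, 3]]

end CfsgLib.Coset.M11.Orb11
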