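import Cfsg.Agent.Coset.Chain

set_option autoImplicit false
set_option maxRecDepth 100000
set_option linter.unusedVariables false

namespace CfsgLib.Coset.M11.Orb

noncomputable def B0PLeaf (i : Nat) : Nat := (0x700000b00000000000600000a000001000005000009000002000004000008000003000003000007000001000003000006000002000002000005000001000002000004000002000001000003000000000001000002000003000000000001000000000000000000 : Nat)
noncomputable def B0P (i : Nat) : Nat := Nat.shiftRight (B0PLeaf (Nat.shiftRight i 8)) (Nat.mul 72 (Nat.land i 255))

noncomputable def B0InvLeaf (i : Nat) : Nat := (0xb00000a000009000008000007000006000005000004000003000002000001000000 : Nat)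
noncomputable def B0Inv (i : Nat) : Nat := Nat.shiftRight (B0InvLeaf (Nat.shiftRight i 8)) (Nat.mul 24 (Nat.land i 255))

def B0G : List (List Nat) := [[0], [1], [2], [3]]

noncomputable def B1PLeaf (i : Nat) : Nat := (0x100000800000700000200000700000b00000000000500000a000001000004000009000002000003000008000001000002000006000002000001000005000001000001000004000002000000000003000000000000000002000000000000000001 : Nat)
noncomputable def B1P (i : Nat) : Nat := Nat.shiftRight (B1PLeaf (Nat.shiftRight i 8)) (Nat.mul 72 (Nat.land i 255))

noncomputable def B1InvLeaf (i : Nat) : Nat := (0x900000800000700000600000a00000500000400000300000200000100000000000b : Nat)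
noncomputable def B1Inv (i : Nat) : Nat := Nat.shiftRight (B1InvLeaf (Nat.shiftRight i 8)) (Nat.mul 24 (Nat.land i 255))

def B1G : List (List Nat) := [[0], [1], [2]]

noncomputable def B2PLeaf (i : Nat) : Nat := (0x100000500000600000100000400000300000200000300000b00000100000300000900000000000300000a000002000002000005000002000001000007000001000000000008000000000000000004000000000000000002 : Nat)
noncomputable def B2P (i : Nat) : Nat := Nat.shiftRight (B2PLeaf (Nat.shiftRight i 8)) (Nat.mul 72 (Nat.land i 255))

noncomputable def B2InvLeaf (i : Nat) : Nat := (0x700000500000600000200000300000900000400000100000800000000000a00000a : Nat)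
noncomputable def B2Inv (i : Nat) : Nat := Nat.shiftRight (B2InvLeaf (Nat.shiftRight i 8)) (Nat.mul 24 (Nat.land i 255))

def B2G : List (List Nat) := [[1], [2, 0, 2], [0, 1, 0, 2, 0]]

noncomputable def B3PLeaf (i : Nat) : Nat := (0x300000600000000000200000500000100000100000900000100000000000a000000000000000008000000000000000004 : Nat)
noncomputable def B3P (i : Nat) : Nat := Nat.shiftRight (B3PLeaf (Nat.shiftRight i 8)) (Nat.mul 72 (Nat.land i 255))

noncomputable def B3InvLeaf (i : Nat) : Nat := (0x6000002000003000001000006000005000004000000000006000006000006000006 : Nat)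
noncomputable def B3Inv (i : Nat) : Nat := Nat.shiftRight (B3InvLeaf (Nat.shiftRight i 8)) (Nat.mul 24 (Nat.land i 255))

def B3G : List (List Nat) := [[1, 2, 0, 2, 1], [0, 1, 0, 2, 0, 1]]

noncomputable def H0PLeaf (i : Nat) : Nat := (0x100000800000700000200000700000b00000000000500000a000001000004000009000002000003000008000001000002000006000002000001000005000001000001000004000002000000000003000000000000000002000000000000000001 : Nat)
noncomputable def H0P (i : Nat) : Nat := Nat.shiftRight (H0PLeaf (Nat.shiftRight i 8)) (Nat.mul 72 (Nat.land i 255))

noncomputable def H0InvLeaf (i : Nat) : Nat := (0x900000800000700000600000a00000500000400000300000200000100000000000b : Nat)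
noncomputable def H0Inv (i : Nat) : Nat := Nat.shiftRight (H0InvLeaf (Nat.shiftRight i 8)) (Nat.mul 24 (Nat.land i 255))

noncomputable def certs : List OrbitCert := [⟨1, 11, H0P, H0Inv⟩]

end CfsgLib.Coset.M11.Orb
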