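import Cfsg.Agent.Coset.Table
import Cfsg.Agent.Coset.M11.Rels
import Cfsg.Agent.Coset.M11.TopData

set_option autoImplicit false
set_option maxRecDepth 100000

namespace CfsgLib.Coset.M11.Top

theorem hR : checkRules rels subs R = true := by decide +kernel
theorem hdefs : checkDefs E 4 10 840 = true := by decide +kernel
theorem hsteps : checkChunks E id R 4 5 840 23 C = true := by decide +kernel
theorem htable : checkTable E id (840 + chunk * 23) 12 4 4 2 Rep Ref Tb = true := by decide +kernel
theorem hperm : checkPerm id 12 4 4 2 Tb = true := by decide +kernel
theorem hrels : checkRels 12 4 Tb rels = true := by decide +kernel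
theorem htrans : checkTrans 12 4 4 Tb Par = true := by decide +kernel

end CfsgLib.Coset.M11.Top
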