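import Cfsg.Agent.Coset.Presented
import Cfsg.Agent.Coset.Chain
import Cfsg.Agent.Coset.M11.Rels
import Cfsg.Agent.Coset.M11.Top
import Cfsg.Agent.Coset.M11.K
import Cfsg.Agent.Coset.M11.OrbData
import Cfsg.Agent.Coset.M11.Eleven
import Cfsg.Agent.Coset.M11.ElevenOrb
import Cfsg.Agent.PermSimple.Sharp
import Cfsg.Prelude.Def_Sporadic

/-! A group presented on four involutions which is simple of order `7920`. -/

set_option autoImplicit false
set_option maxRecDepth 100000
set_option Elab.async false

namespace CfsgLib.Coset.M11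

/-- The presented group. -/
abbrev P : Type := NumGr 4 rels

/-- The generators. -/
noncomputable abbrev Lp : List P := numGens 4 rels

theorem len_Lp : (Lp).length = 4 := length_numGens

theorem sq_all (x : Nat) : fl Lp x * fl Lp x = 1 := sq_numGens (by decide +kernel) x

theorem inv_all (x : Nat) : fl Lp (id x) = (fl Lp x)⁻¹ := by
  rw [id, inv_eq_of_mul_eq_one_right (sq_all x)]

theorem closure_Lp : Subgroup.closure {x | x ∈ Lp} = ⊤ := closure_numGens

/-- The subgroup of index 12. -/
noncomputable abbrev H : Subgroup P := genW Lp Top.subs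

theorem top_table : TableOK Lp H Top.E id 12 Top.Rep Top.Tb :=
  tableOK_of_check inv_all Top.hR (len_Lp.symm ▸ Top.hdefs) (len_Lp.symm ▸ Top.hsteps)
    (len_Lp.symm ▸ Top.htable) ev_numGens (fun _ hw => ev_mem_genW hw)

theorem card_H : Finite H ∧ Nat.card H ≤ 660 := by
  have hc : checkLevel rels 4 [0, 1, 2] [] K.lrels K.subs = true := by decide +kernel
  have hl : (lv Lp [0, 1, 2]).length = 3 := by simp [lv]
  have ht : TableOK (lv Lp [0, 1, 2]) (genBy Lp []) K.E id 660 K.Rep K.Tb :=
    tableOK_of_check (inv_lv sq_all [0, 1, 2]) K.hR (hl.symm ▸ K.hdefs) (hl.symm ▸ K.hsteps)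
      (hl.symm ▸ K.htable) (level_rels len_Lp hc ev_numGens) (level_subs len_Lp hc)
  have h := level_card ht (by decide) hc card_genBy_nil
  rw [← genW_singletons] at h
  exact ⟨h.1, h.2.trans (by norm_num)⟩

theorem card_le : Finite P ∧ Nat.card P ≤ 7920 := by
  obtain ⟨hf, hc⟩ := top_table.finite_card_le (by decide) (closure_Lp ▸ le_top) card_H.1 card_H.2
  rw [closure_Lp] at hf hc
  rw [Subgroup.card_top] at hc
  exact ⟨Finite.of_equiv _ Subgroup.topEquiv.toEquiv, hc.trans (by norm_num)⟩

theorem perm_rels : ∀ w ∈ rels, ev (sigList Top.hperm) w = 1 :=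
  ev_sigList_eq_one Top.hperm Top.hrels (by decide +kernel)

/-- The action on 12 points. -/
noncomputable def ρ : P →* Equiv.Perm (Fin 12) := numHom (by simp [sigList]) perm_rels

theorem matches_ρ : Matches Lp ρ Top.Tb := by
  intro l hl i
  rw [ρ, numHom_fl, fl_sigList, sig_symm_apply Top.hperm (len_Lp ▸ hl)]

theorem index_and_eq : H.index = 12 ∧ H = pstab ρ ⟨0, by decide⟩ :=
  exact_index top_table matches_ρ (by decide) (len_Lp.symm ▸ Top.htrans) closure_Lp
    (genW_le_pstab matches_ρ _ (by decide +kernel) (by decide +kernel))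

theorem transitive (i : Fin 12) : ∃ g, ρ g ⟨0, by decide⟩ = i :=
  (matches_ρ.transitive (by decide) (len_Lp.symm ▸ Top.htrans) i).imp fun _ h => h.2

theorem subs_letters : checkLetters (Lp).length Top.subs = true := by
  rw [len_Lp]; decide +kernel

theorem orbits_ok : checkOrbits Top.Tb 4 Top.subs Orb.certs = true := by decide +kernel

theorem cover_ok : checkCover 12 4 Orb.certs = true := by decide +kernel

theorem card_and_injective : Nat.card P = 7920 ∧ Function.Injective ρ := by
  have := card_le.1
  refine card_eq_and_injective (by decide) card_le.2 ?_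
  have h4 := card_ker_le (ρ := ρ) [(0 : Fin 12), 1, 2, 4]
  have h3 := orbit_step matches_ρ (base := [(0 : Fin 12), 1, 2]) (β := 4) (m := 6) (dm := 3)
    (gens := Orb.B3G) (P := Orb.B3P) (Inv := Orb.B3Inv)
    (by decide +kernel) (by decide +kernel) (by decide +kernel) h4
  have h2 := orbit_step matches_ρ (base := [(0 : Fin 12), 1]) (β := 2) (m := 10) (dm := 4)
    (gens := Orb.B2G) (P := Orb.B2P) (Inv := Orb.B2Inv)
    (by decide +kernel) (by decide +kernel) (by decide +kernel) h3
  have h1 := orbit_step matches_ρ (base := [(0 : Fin 12)]) (β := 1) (m := 11) (dm := 4)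
    (gens := Orb.B1G) (P := Orb.B1P) (Inv := Orb.B1Inv)
    (by decide +kernel) (by decide +kernel) (by decide +kernel) h2
  have h0 := orbit_step matches_ρ (base := []) (β := 0) (m := 12) (dm := 4)
    (gens := Orb.B0G) (P := Orb.B0P) (Inv := Orb.B0Inv)
    (by decide +kernel) (by decide +kernel) (by decide +kernel) h1
  simpa [← mul_assoc] using h0

/-- The table on eleven points. -/
theorem eleven_rels : ∀ w ∈ rels, ev (sigList Eleven.hperm) w = 1 :=
  ev_sigList_eq_one Eleven.hperm Eleven.hrels (by decide +kernel)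

/-- The action on eleven points. -/
noncomputable def σ : P →* Equiv.Perm (Fin 11) := numHom (by simp [sigList]) eleven_rels

theorem matches_σ : Matches Lp σ Eleven.Tb := by
  intro l hl i
  rw [σ, numHom_fl, fl_sigList, sig_symm_apply Eleven.hperm (len_Lp ▸ hl)]

theorem σ_transitive (i : Fin 11) : ∃ g, σ g ⟨0, by decide⟩ = i :=
  (matches_σ.transitive (by decide) (len_Lp.symm ▸ Eleven.htrans) i).imp fun _ h => h.2

theorem σ_injective : Function.Injective σ := by
  have := card_le.1
  refine (card_eq_and_injective (by decide) card_le.2 ?_).2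
  have h4 := card_ker_le (ρ := σ) [(0 : Fin 11), 1, 2, 3]
  have h3 := orbit_step matches_σ (base := [(0 : Fin 11), 1, 2]) (β := 3) (m := 8) (dm := 3)
    (gens := Orb11.A3G) (P := Orb11.A3P) (Inv := Orb11.A3Inv)
    (by decide +kernel) (by decide +kernel) (by decide +kernel) h4
  have h2 := orbit_step matches_σ (base := [(0 : Fin 11), 1]) (β := 2) (m := 9) (dm := 4)
    (gens := Orb11.A2G) (P := Orb11.A2P) (Inv := Orb11.A2Inv)
    (by decide +kernel) (by decide +kernel) (by decide +kernel) h3
  have h1 := orbit_step matches_σ (base := [(0 : Fin 11)]) (β := 1) (m := 10) (dm := 4)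
    (gens := Orb11.A1G) (P := Orb11.A1P) (Inv := Orb11.A1Inv)
    (by decide +kernel) (by decide +kernel) (by decide +kernel) h2
  have h0 := orbit_step matches_σ (base := []) (β := 0) (m := 11) (dm := 4)
    (gens := Orb11.A0G) (P := Orb11.A0P) (Inv := Orb11.A0Inv)
    (by decide +kernel) (by decide +kernel) (by decide +kernel) h1
  simpa [← mul_assoc] using h0

theorem isSimple : IsSimpleGroup P := by
  have := card_le.1
  let e : P ≃* σ.range := MonoidHom.ofInjective σ_injective
  have : MulAction.IsPretransitive σ.range (Fin 11) := ⟨fun a b => by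
    obtain ⟨g, hg⟩ := σ_transitive a
    obtain ⟨g', hg'⟩ := σ_transitive b
    refine ⟨⟨σ (g' * g⁻¹), ⟨_, rfl⟩⟩, ?_⟩
    show σ (g' * g⁻¹) a = b
    rw [← hg, map_mul, map_inv, Equiv.Perm.mul_apply, Equiv.Perm.inv_def,
      Equiv.symm_apply_apply, hg']⟩
  refine e.isSimpleGroup_congr.mpr (CfsgLib.PermSimple.isSimpleGroup_7920 (α := Fin 11) ?_ (by simp))
  rw [← Nat.card_congr e.toEquiv, card_and_injective.1]

theorem isM11 : Cfsg.IsM11 P := ⟨isSimple, card_and_injective.1⟩

end CfsgLib.Coset.M11
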